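import Groth.Agent.H29Slice.TransReg
import Mathlib

/-!
# Sequences regular on a fibre are transversally regular near the point
-/

set_option autoImplicit false
set_option linter.style.haveILetI false
universe u

namespace Groth.Agent.H8Props.SliceTools

variable {A : Type u} [CommRing A]

/-- The sequence is weakly regular in the local ring at `q` of the fibre. -/
def FibReg {B : Type u} [CommRing B] [Algebra A B] (q : Ideal B) (fs : List B) : Prop :=
  ∀ (i : ℕ) (h : i < fs.length) (c t : B), t ∉ q →
    t * (fs[i] * c) ∈ (q.comap (algebraMap A B)).map (algebraMap A B) ⊔ Ideal.ofList (fs.take i) →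
    ∃ t' ∉ q, t' * c ∈ (q.comap (algebraMap A B)).map (algebraMap A B) ⊔ Ideal.ofList (fs.take i)

/-- A sequence that is regular on the fibre is transversally regular near the prime. -/
theorem exists_transReg_of_fibReg : ∀ (r : ℕ) (B : Type u) [CommRing B] [Algebra A B]
    [Algebra.FinitePresentation A B] [Module.Flat A B] (fs : List B), fs.length = r →
    ∀ q : PrimeSpectrum B, (∀ f ∈ fs, f ∈ q.asIdeal) → FibReg (A := A) q.asIdeal fs →
    ∃ b ∉ q.asIdeal, ∀ (L : Type u) [CommRing L] [Algebra A L] [Algebra B L] [IsScalarTower A B L]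
      [IsLocalization.Away b L], RegImm.IsTransRegularSeq A L (fs.map (algebraMap B L)) := by
  intro r
  induction r with
  | zero =>
    intro B _ _ _ _ fs hfs q _ _
    obtain rfl := List.length_eq_zero_iff.1 hfs
    refine ⟨1, q.isPrime.ne_top ∘ (Ideal.eq_top_iff_one _).mpr,
      fun L _ _ _ _ _ => ⟨by simp, fun j _ => ?_⟩⟩
    haveI : Module.Flat B L := IsLocalization.flat L (Submonoid.powers (1 : B))
    haveI : Module.Flat A L := Module.Flat.trans A B L
    rw [List.map_nil, List.take_nil, Ideal.ofList_nil]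
    exact Module.Flat.of_linearEquiv (AlgEquiv.quotientBot A L).toLinearEquiv
  | succ r ih =>
    intro B _ _ _ _ fs hfs q hfq hreg
    obtain ⟨f, ts, rfl⟩ := List.exists_cons_of_length_eq_add_one hfs
    have hts : ts.length = r := by simpa using hfs
    obtain ⟨b₁, hb₁, hs⟩ := H29Slice.exists_slice (A := A) f q (hfq f (List.mem_cons_self ..))
      fun c t ht h => by
        have := hreg 0 (Nat.succ_pos _) c t ht (by simpa using h)
        simpa using this
    let L₁ := Localization.Away b₁
    obtain ⟨hnzd, hflC⟩ := hs L₁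
    haveI : Module.Flat B L₁ := IsLocalization.flat L₁ (Submonoid.powers b₁)
    haveI : Module.Flat A L₁ := Module.Flat.trans A B L₁
    let I : Ideal L₁ := Ideal.span {algebraMap B L₁ f}
    let C := L₁ ⧸ I
    haveI : Module.Flat A C := hflC
    haveI : Algebra.FinitePresentation B L₁ := IsLocalization.Away.finitePresentation b₁
    haveI : Algebra.FinitePresentation A L₁ := Algebra.FinitePresentation.trans A B L₁
    haveI : Algebra.FinitePresentation A C :=
      Algebra.FinitePresentation.quotient (Submodule.fg_span_singleton _)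
    let φ : B →+* C := (Ideal.Quotient.mk I).comp (algebraMap B L₁)
    -- the prime in the quotient
    have hdisj : Disjoint (Submonoid.powers b₁ : Set B) (q.asIdeal : Set B) :=
      (Ideal.disjoint_powers_iff_notMem _ (q.isPrime.isRadical)).mpr hb₁
    let q₁ : Ideal L₁ := q.asIdeal.map (algebraMap B L₁)
    haveI hq₁p : q₁.IsPrime :=
      IsLocalization.isPrime_of_isPrime_disjoint (Submonoid.powers b₁) L₁ _ q.isPrime hdisj
    have hcomap : q₁.comap (algebraMap B L₁) = q.asIdeal :=
      IsLocalization.under_map_of_isPrime_disjoint (Submonoid.powers b₁) L₁ q.isPrime hdisj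
    have hIle : I ≤ q₁ := (Ideal.span_singleton_le_iff_mem _).mpr
      (Ideal.mem_map_of_mem _ (hfq f (List.mem_cons_self ..)))
    let qC : PrimeSpectrum C := ⟨q₁.map (Ideal.Quotient.mk I),
      Ideal.map_isPrime_of_surjective Ideal.Quotient.mk_surjective (by rwa [Ideal.mk_ker])⟩
    have hqφ : ∀ x : B, φ x ∈ qC.asIdeal ↔ x ∈ q.asIdeal := fun x => by
      show Ideal.Quotient.mk I _ ∈ q₁.map _ ↔ _
      rw [Ideal.mem_quotient_iff_mem hIle, ← Ideal.mem_comap, hcomap]
    have hp : qC.asIdeal.comap (algebraMap A C) = q.asIdeal.comap (algebraMap A B) := by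
      ext a
      rw [Ideal.mem_comap, Ideal.mem_comap, ← hqφ]
      rfl
    have hmapA : φ.comp (algebraMap A B) = algebraMap A C := by
      ext a
      rfl
    have hunit : IsUnit (φ b₁) :=
      (IsLocalization.Away.algebraMap_isUnit (S := L₁) b₁).map (Ideal.Quotient.mk I)
    have hsurj : ∀ x : C, ∃ (n : ℕ) (y : B), x * φ b₁ ^ n = φ y := fun x => by
      obtain ⟨l, rfl⟩ := Ideal.Quotient.mk_surjective x
      obtain ⟨n, y, hy⟩ := IsLocalization.Away.surj b₁ l
      exact ⟨n, y, by rw [show φ b₁ = Ideal.Quotient.mk I (algebraMap B L₁ b₁) from rfl, ← map_pow, ← map_mul, hy]; rfl⟩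
    have hregC : FibReg (A := A) qC.asIdeal (ts.map φ) := by
      intro i hi c t ht hmem
      rw [List.length_map] at hi
      let K := (q.asIdeal.comap (algebraMap A B)).map (algebraMap A B) ⊔
        Ideal.ofList ((f :: ts).take (i + 1))
      have hfK : f ∈ K := Ideal.mem_sup_right (Ideal.subset_span (by simp))
      have hK : (qC.asIdeal.comap (algebraMap A C)).map (algebraMap A C) ⊔
          Ideal.ofList ((ts.map φ).take i) = K.map φ := by
        have hφf : φ f = 0 := Ideal.Quotient.eq_zero_iff_mem.mpr (Ideal.subset_span rfl)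
        rw [hp, Ideal.map_sup, Ideal.map_map, hmapA, Ideal.map_ofList, List.take_succ_cons,
          List.map_cons, Ideal.ofList_cons, hφf, List.map_take]
        simp
      have hback : ∀ y : B, φ y ∈ K.map φ → ∃ k : ℕ, b₁ ^ k * y ∈ K := fun y hy => by
        have hy' : Ideal.Quotient.mk I (algebraMap B L₁ y) ∈
            (K.map (algebraMap B L₁)).map (Ideal.Quotient.mk I) := by
          rw [Ideal.map_map]; exact hy
        have hIK : I ≤ K.map (algebraMap B L₁) :=
          (Ideal.span_singleton_le_iff_mem _).mpr (Ideal.mem_map_of_mem _ hfK)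
        rw [Ideal.mem_quotient_iff_mem hIK] at hy'
        obtain ⟨_, ⟨k, rfl⟩, hk⟩ :=
          (IsLocalization.algebraMap_mem_map_algebraMap_iff (Submonoid.powers b₁) _ _ _).mp hy'
        exact ⟨k, hk⟩
      obtain ⟨n, c₀, hc₀⟩ := hsurj c
      obtain ⟨m, t₀, ht₀⟩ := hsurj t
      rw [hK] at hmem ⊢
      rw [List.getElem_map] at hmem
      have h1 : φ (t₀ * (ts[i] * c₀)) ∈ K.map φ := by
        have e : φ (t₀ * (ts[i] * c₀)) = t * (φ ts[i] * c) * (φ b₁ ^ m * φ b₁ ^ n) := by
          rw [map_mul, map_mul, ← hc₀, ← ht₀]; ring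
        rw [e]
        exact Ideal.mul_mem_right _ _ hmem
      obtain ⟨k, hk⟩ := hback _ h1
      have ht₀q : b₁ ^ k * t₀ ∉ q.asIdeal := fun h => (q.isPrime.mem_or_mem h).elim
        (fun h => hb₁ (q.isPrime.mem_of_pow_mem _ h)) (fun h => ht (by
          have := (hqφ t₀).mpr h
          rw [← ht₀] at this
          exact (Ideal.mul_unit_mem_iff_mem _ (hunit.pow m)).mp this))
      obtain ⟨t', ht', ht'c⟩ := hreg (i + 1) (by simpa using hi) c₀ (b₁ ^ k * t₀) ht₀q (by
        rw [List.getElem_cons_succ, mul_assoc]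
        exact hk)
      refine ⟨φ (t' * b₁ ^ n), fun h => ((q.isPrime.mem_or_mem ((hqφ _).mp h)).elim ht'
        fun h => hb₁ (q.isPrime.mem_of_pow_mem _ h)), ?_⟩
      have e : φ (t' * b₁ ^ n) * c = φ (t' * c₀) := by
        rw [map_mul, map_mul, ← hc₀, map_pow]; ring
      rw [e]
      exact Ideal.mem_map_of_mem _ ht'c
    obtain ⟨c, hc, hIH⟩ := ih C (ts.map φ) (by simpa using hts) qC
      (fun g hg => by
        obtain ⟨g', hg', rfl⟩ := List.mem_map.mp hg
        exact (hqφ g').mpr (hfq g' (List.mem_cons_of_mem _ hg'))) hregC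
    obtain ⟨n, b₂, hb₂⟩ := hsurj c
    have hb₂q : b₂ ∉ q.asIdeal := fun h => hc (by
      have h1 := (hqφ b₂).mpr h
      rw [← hb₂] at h1
      exact (Ideal.mul_unit_mem_iff_mem _ (hunit.pow n)).mp h1)
    refine ⟨b₁ * b₂, fun h => (q.isPrime.mem_or_mem h).elim hb₁ hb₂q, fun L _ _ _ _ _ => ?_⟩
    let b₂' := algebraMap B L₁ b₂
    let L₂ := Localization.Away b₂'
    haveI : IsLocalization.Away (b₁ * b₂) L₂ := IsLocalization.Away.mul' L₁ L₂ b₁ b₂
    let e₀ : L₂ ≃ₐ[B] L := IsLocalization.algEquiv (Submonoid.powers (b₁ * b₂)) L₂ L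
    let e : L₂ ≃ₐ[A] L := e₀.restrictScalars A
    suffices h₂ : RegImm.IsTransRegularSeq A L₂ ((f :: ts).map (algebraMap B L₂)) by
      have h3 := H29Slice.isTransRegularSeq_of_algEquiv e h₂
      rw [List.map_map] at h3
      convert h3 using 2
      exact funext fun x => (e₀.commutes x).symm
    haveI : Module.Flat L₁ L₂ := IsLocalization.flat L₂ (Submonoid.powers b₂')
    haveI : Module.Flat A L₂ := Module.Flat.trans A L₁ L₂
    rw [List.map_cons]
    refine H29Slice.isTransRegularSeq_cons _ _ ?_ ?_
    · rw [IsScalarTower.algebraMap_apply B L₁ L₂]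
      exact _root_.H29Blow.mem_nonZeroDivisors_map_of_flat
        (RingHom.flat_algebraMap_iff.mpr inferInstance) hnzd
    let J₂ := I.map (algebraMap L₁ L₂)
    haveI : IsScalarTower A C (L₂ ⧸ J₂) :=
      IsScalarTower.of_algebraMap_eq (R := A) (S := C) (A := L₂ ⧸ J₂) fun a =>
        congrArg (Ideal.Quotient.mk J₂) (IsScalarTower.algebraMap_apply A L₁ L₂ a)
    haveI : IsLocalization.Away c (L₂ ⧸ J₂) := by
      have hloc : IsLocalization (Algebra.algebraMapSubmonoid C (Submonoid.powers b₂')) (L₂ ⧸ J₂) :=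
        inferInstance
      rw [Algebra.algebraMapSubmonoid, Submonoid.map_powers] at hloc
      haveI : IsLocalization.Away (algebraMap L₁ C b₂') (L₂ ⧸ J₂) := hloc
      refine IsLocalization.Away.of_associated (r := algebraMap L₁ C b₂') ?_
      show Associated (φ b₂) _
      rw [← hb₂]
      exact associated_mul_unit_left _ _ (hunit.pow n)
    have h4 := hIH (L₂ ⧸ J₂)
    have hJ : J₂ = Ideal.span {algebraMap B L₂ f} := by
      show (Ideal.span _).map _ = _
      rw [Ideal.map_span, Set.image_singleton, ← IsScalarTower.algebraMap_apply]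
    have key : ∀ K : Ideal L₂, J₂ = K → RegImm.IsTransRegularSeq A (L₂ ⧸ K)
        ((ts.map (algebraMap B L₂)).map (Ideal.Quotient.mk K)) := by
      rintro K rfl
      convert h4 using 1
      rw [List.map_map, List.map_map]
      refine List.map_congr_left fun x _ => ?_
      show Ideal.Quotient.mk J₂ (algebraMap B L₂ x) =
        Ideal.Quotient.mk J₂ (algebraMap L₁ L₂ (algebraMap B L₁ x))
      rw [← IsScalarTower.algebraMap_apply]
    exact key _ hJ

end Groth.Agent.H8Props.SliceTools
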