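import Groth.Agent.H8Props.SliceTools.Basic
import Groth.Agent.H8Props.SliceTools.Ring
import Groth.Agent.H29Slice.TransBC
import Groth.Prelude.Def_Mor2
import Mathlib

/-!
# Cutting out by a sequence regular on the fibre
-/

set_option autoImplicit false
set_option linter.style.haveILetI false
set_option backward.isDefEq.respectTransparency false
set_option backward.defeqAttrib.useBackward true
universe u

open AlgebraicGeometry CategoryTheory CategoryTheory.Limits IsLocalRing TopologicalSpace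

namespace Groth.Agent.H8Props.SliceTools

/-- A closed immersion which is a regular immersion at every point is a regular closed immersion. -/
theorem isRegularClosedImmersion_of {Z Z' X : Scheme.{u}} (e : Z' ≅ Z) (i : Z ⟶ X) [IsClosedImmersion i]
    (h : ∀ z, RegImm.IsRegularImmersionAt RegImm.Kind.regular i z) :
    Mor2.IsRegularClosedImmersion (e.hom ≫ i) := by
  refine ⟨inferInstance, fun z => ?_⟩
  obtain ⟨U, hzU, -, rs, hrs, hker⟩ := h (e.hom z)
  refine ⟨U.1, U.2, hzU, rs, hrs, ?_⟩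
  rw [Scheme.Hom.ker_apply (e.hom ≫ i) ⟨U.1, U.2⟩, Scheme.Hom.comp_app, CommRingCat.hom_comp,
    RingHom.ker_comp_of_injective _ (ConcreteCategory.bijective_of_isIso (e.hom.app _)).1]
  exact hker

/-- A transversally regular closed immersion stays regular under every base change. -/
theorem isRegularClosedImmersion_map {Z X S S' : Scheme.{u}} (f : X ⟶ S) (j : Z ⟶ X)
    [IsClosedImmersion j] (hj : ∀ z, RegImm.IsTransRegularImmersionAt f j z) (g : S' ⟶ S) (a : Z ⟶ S)
    (ha : a = j ≫ f) (h₁ : a ≫ 𝟙 S = j ≫ f) (h₂ : g ≫ 𝟙 S = 𝟙 S' ≫ g) :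
    Mor2.IsRegularClosedImmersion (pullback.map a g f g j (𝟙 S') (𝟙 S) h₁ h₂) := by
  subst ha
  let m := pullback.map (j ≫ f) g f g j (𝟙 S') (𝟙 S) h₁ h₂
  have hm : m ≫ pullback.snd f g = pullback.snd (j ≫ f) g := by
    simp [m, pullback.map]
  have hP : IsPullback (pullback.fst (j ≫ f) g) m j (pullback.fst f g) :=
    IsPullback.of_bot (hm.symm ▸ IsPullback.of_hasPullback (j ≫ f) g)
      (by simp [m, pullback.map]) (IsPullback.of_hasPullback f g)
  have e : m = hP.isoPullback.hom ≫ pullback.snd j (pullback.fst f g) :=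
    (hP.isoPullback_hom_snd).symm
  show Mor2.IsRegularClosedImmersion m
  rw [e]
  haveI : IsClosedImmersion (pullback.snd j (pullback.fst f g)) :=
    MorphismProperty.pullback_snd (P := @IsClosedImmersion) _ _ inferInstance
  exact isRegularClosedImmersion_of _ _
    (H29Slice.isRegularImmersion_baseChange_of_transReg f j hj g).2

theorem exists_common {X : Scheme.{u}} (x : X) : ∀ (hs : List (X.presheaf.stalk x)) (W : X.Opens) (_ : x ∈ W),
    ∃ (W' : X.Opens) (hx : x ∈ W'), W' ≤ W ∧ ∃ hs' : List Γ(X, W'),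
      hs'.map (X.presheaf.germ W' x hx) = hs
  | [], W, hW => ⟨W, hW, le_rfl, [], rfl⟩
  | r :: hs, W, hW => by
    obtain ⟨V, hV, s, rfl⟩ := X.presheaf.exists_germ_eq r
    obtain ⟨W', hx, hle, hs', rfl⟩ := exists_common x hs (W ⊓ V) ⟨hW, hV⟩
    refine ⟨W', hx, hle.trans inf_le_left,
      X.presheaf.map (homOfLE (hle.trans inf_le_right)).op s :: hs', ?_⟩
    rw [List.map_cons, TopCat.Presheaf.germ_res_apply]

/-- Regularity of germs on the fibre, in terms of the coordinate ring of a chart. -/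
theorem fibReg_of_chart {A B : Type u} [CommRing A] [CommRing B] [Algebra A B] (R : Type u) [CommRing R]
    [Algebra B R] (q : Ideal B) [q.IsPrime] [IsLocalization.AtPrime R q] (fs : List B) (I : Ideal R)
    (hI : I = ((q.comap (algebraMap A B)).map (algebraMap A B)).map (algebraMap B R))
    (h : RingTheory.Sequence.IsWeaklyRegular (R ⧸ I)
      ((fs.map (algebraMap B R)).map (Ideal.Quotient.mk I))) :
    FibReg (A := A) q fs := by
  intro i hi c t ht hmem
  let K := (q.comap (algebraMap A B)).map (algebraMap A B) ⊔ Ideal.ofList (fs.take i)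
  have hK : (Ideal.ofList (((fs.map (algebraMap B R)).map (Ideal.Quotient.mk I)).take i)) =
      (K.map (algebraMap B R)).map (Ideal.Quotient.mk I) := by
    rw [Ideal.map_sup, ← hI, Ideal.map_sup, Ideal.map_quotient_self, bot_sup_eq, Ideal.map_ofList,
      Ideal.map_ofList, List.map_take, List.map_take]
  have hIK : I ≤ K.map (algebraMap B R) := by
    rw [hI]; exact Ideal.map_mono le_sup_left
  have h1 : algebraMap B R (fs[i] * c) ∈ K.map (algebraMap B R) :=
    (IsLocalization.algebraMap_mem_map_algebraMap_iff q.primeCompl _ _ _).mpr ⟨t, ht, hmem⟩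
  have h2 := (H29Slice.isWeaklyRegular_iff_elementwise _).mp h i (by simpa using hi)
    (Ideal.Quotient.mk I (algebraMap B R c)) (by
      rw [List.getElem_map, List.getElem_map, ← map_mul, ← map_mul, hK]
      exact Ideal.mem_map_of_mem _ h1)
  rw [hK, Ideal.mem_quotient_iff_mem hIK] at h2
  exact (IsLocalization.algebraMap_mem_map_algebraMap_iff q.primeCompl _ _ _).mp h2

theorem main {X S : Scheme.{u}} (f : X ⟶ S) [LocallyOfFinitePresentation f] (x : X)
    (hflat : (f.stalkMap x).hom.Flat) (hs : List ↑(X.presheaf.stalk x))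
    (hreg : RingTheory.Sequence.IsRegular (↑(X.presheaf.stalk x) ⧸ Ideal.map (f.stalkMap x).hom (maximalIdeal ↑(S.presheaf.stalk (f x))))
      (hs.map (Ideal.Quotient.mk (Ideal.map (f.stalkMap x).hom (maximalIdeal ↑(S.presheaf.stalk (f x))))))) :
    ∃ (U : X.Opens) (hU : IsAffineOpen U) (hx : x ∈ U) (hs' : List Γ(X, U)),
      hs'.map (X.presheaf.germ U x hx) = hs ∧
      x ∈ Set.range ⇑(Spec.map (CommRingCat.ofHom (Ideal.Quotient.mk (Ideal.ofList hs'))) ≫ hU.fromSpec) ∧
      Flat (Spec.map (CommRingCat.ofHom (Ideal.Quotient.mk (Ideal.ofList hs'))) ≫ hU.fromSpec ≫ f) ∧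
      LocallyOfFinitePresentation (Spec.map (CommRingCat.ofHom (Ideal.Quotient.mk (Ideal.ofList hs'))) ≫ hU.fromSpec ≫ f) ∧
      ∀ z, RegImm.IsTransRegularImmersionAt (U.ι ≫ f)
        (Spec.map (CommRingCat.ofHom (Ideal.Quotient.mk (Ideal.ofList hs'))) ≫ hU.isoSpec.inv) z := by
  set I := Ideal.map (f.stalkMap x).hom (maximalIdeal ↑(S.presheaf.stalk (f x))) with hI
  have hmem : ∀ r ∈ hs, r ∈ maximalIdeal (X.presheaf.stalk x) := fun r hr hu => hreg.top_ne_smul (by
    rw [smul_eq_mul, Ideal.mul_top]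
    exact (Ideal.eq_top_of_isUnit_mem _ (Ideal.subset_span (s := {y | y ∈ hs.map (Ideal.Quotient.mk I)}) (List.mem_map_of_mem hr))
      (hu.map (Ideal.Quotient.mk I))).symm)
  obtain ⟨W, hxW, -, hsW, hsW'⟩ := exists_common x hs ⊤ trivial
  obtain ⟨V, hV, U, hU, e, hxU, hUW, hfl⟩ := exists_flat_chart f x hflat W hxW
  let fs := hsW.map (X.presheaf.map (homOfLE hUW).op)
  have hfs : fs.map (X.presheaf.germ U x hxU) = hs := by
    rw [← hsW', List.map_map]
    exact List.map_congr_left fun s _ => TopCat.Presheaf.germ_res_apply ..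
  letI := (f.appLE V U e).hom.toAlgebra
  haveI : Module.Flat Γ(S, V) Γ(X, U) := hfl
  haveI : Algebra.FinitePresentation Γ(S, V) Γ(X, U) :=
    LocallyOfFinitePresentation.finitePresentation_appLE f hV hU e
  let q := hU.primeIdealOf ⟨x, hxU⟩
  let π : U := ⟨x, hxU⟩
  letI : Algebra Γ(X, U) (X.presheaf.stalk x) := (X.presheaf.germ U x hxU).hom.toAlgebra
  haveI : IsLocalization.AtPrime (X.presheaf.stalk x) q.asIdeal := hU.isLocalization_stalk π
  let fx : Γ(S, V) →+* S.presheaf.stalk (f x) := (S.presheaf.germ V (f x) (e hxU)).hom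
  letI : Algebra Γ(S, V) (S.presheaf.stalk (f x)) := fx.toAlgebra
  haveI : IsLocalization.AtPrime (S.presheaf.stalk (f x)) (hV.primeIdealOf ⟨f x, e hxU⟩).asIdeal :=
    hV.isLocalization_stalk ⟨f x, e hxU⟩
  have hcomp : (f.stalkMap x).hom.comp fx =
      (algebraMap Γ(X, U) (X.presheaf.stalk x)).comp (algebraMap Γ(S, V) Γ(X, U)) := by
    refine RingHom.ext fun a => ?_
    show f.stalkMap x (S.presheaf.germ V (f x) (e hxU) a) = X.presheaf.germ U x hxU (f.appLE V U e a)
    rw [Scheme.Hom.germ_stalkMap_apply]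
    simp [Scheme.Hom.appLE]
  have hp : (hV.primeIdealOf ⟨f x, e hxU⟩).asIdeal = q.asIdeal.comap (algebraMap Γ(S, V) Γ(X, U)) := by
    rw [← IsLocalization.AtPrime.under_maximalIdeal (S.presheaf.stalk (f x)) (hV.primeIdealOf ⟨f x, e hxU⟩).asIdeal]
    show (maximalIdeal _).comap fx = q.asIdeal.comap (algebraMap Γ(S, V) Γ(X, U))
    rw [← IsLocalization.AtPrime.under_maximalIdeal (X.presheaf.stalk x) q.asIdeal, Ideal.comap_comap,
      ← hcomp, ← Ideal.comap_comap, ((local_hom_TFAE (f.stalkMap x).hom).out 0 4 : IsLocalHom (f.stalkMap x).hom ↔ (maximalIdeal _).comap (f.stalkMap x).hom = maximalIdeal _).mp inferInstance]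
  have hI' : I = ((q.asIdeal.comap (algebraMap Γ(S, V) Γ(X, U))).map (algebraMap Γ(S, V) Γ(X, U))).map
      (algebraMap Γ(X, U) (X.presheaf.stalk x)) := by
    rw [hI, ← IsLocalization.AtPrime.map_eq_maximalIdeal (hV.primeIdealOf ⟨f x, e hxU⟩).asIdeal
      (S.presheaf.stalk (f x)), hp, Ideal.map_map, Ideal.map_map, ← hcomp]
    rfl
  have hfq : ∀ g ∈ fs, g ∈ q.asIdeal := fun g hg => by
    rw [← IsLocalization.AtPrime.under_maximalIdeal (X.presheaf.stalk x) q.asIdeal]
    exact hmem _ (hfs ▸ List.mem_map_of_mem hg)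
  have hfib : FibReg (A := Γ(S, V)) q.asIdeal fs := fibReg_of_chart _ _ fs I hI' (by
    rw [show fs.map (algebraMap Γ(X, U) (X.presheaf.stalk x)) = hs from hfs]
    exact hreg.1)
  obtain ⟨b, hb, hL⟩ := exists_transReg_of_fibReg _ _ fs rfl q hfq hfib
  have hxb : x ∈ X.basicOpen b := by
    have h0 : q ∈ hU.fromSpec ⁻¹ᵁ X.basicOpen b := by
      rw [hU.fromSpec_preimage_basicOpen b]; exact hb
    have h1 : hU.fromSpec q = x := hU.fromSpec_primeIdealOf ⟨x, hxU⟩
    rw [← h1]
    exact h0
  letI : Algebra Γ(X, U) Γ(X, X.basicOpen b) :=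
    (X.presheaf.map (homOfLE (X.basicOpen_le b)).op).hom.toAlgebra
  let e' : X.basicOpen b ≤ f ⁻¹ᵁ V := (X.basicOpen_le b).trans e
  letI : Algebra Γ(S, V) Γ(X, X.basicOpen b) := (f.appLE V (X.basicOpen b) e').hom.toAlgebra
  haveI : IsScalarTower Γ(S, V) Γ(X, U) Γ(X, X.basicOpen b) := IsScalarTower.of_algebraMap_eq' (by
    show (f.appLE V (X.basicOpen b) _).hom = (f.appLE V U e ≫ X.presheaf.map (homOfLE (X.basicOpen_le b)).op).hom
    rw [Scheme.Hom.appLE_map])
  haveI : IsLocalization.Away b Γ(X, X.basicOpen b) := hU.isLocalization_basicOpen b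
  have hT := hL Γ(X, X.basicOpen b)
  let U' := X.basicOpen b
  have hU' : IsAffineOpen U' := hU.basicOpen b
  let fs' := fs.map (algebraMap Γ(X, U) Γ(X, U'))
  have hgf : Spec.map (CommRingCat.ofHom (Ideal.Quotient.mk (Ideal.ofList fs'))) ≫ hU'.fromSpec ≫ f =
      Spec.map (CommRingCat.ofHom ((Ideal.Quotient.mk (Ideal.ofList fs')).comp
        (f.appLE V U' e').hom)) ≫ hV.fromSpec := by
    rw [← IsAffineOpen.SpecMap_appLE_fromSpec f hV hU' e', ← Spec.map_comp_assoc]
    rfl
  haveI := hV.isOpenImmersion_fromSpec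
  have hgerm : fs'.map (X.presheaf.germ U' x hxb) = hs := by
    rw [← hfs, List.map_map]
    exact List.map_congr_left fun s _ => TopCat.Presheaf.germ_res_apply ..
  refine ⟨U', hU', hxb, fs', hgerm, ?_, ?_, ?_, ?_⟩
  · have hle : Ideal.ofList fs' ≤ (hU'.primeIdealOf ⟨x, hxb⟩).asIdeal := Ideal.span_le.mpr fun g hg => by
      letI : Algebra Γ(X, U') (X.presheaf.stalk x) := (X.presheaf.germ U' x hxb).hom.toAlgebra
      haveI : IsLocalization.AtPrime (X.presheaf.stalk x) (hU'.primeIdealOf ⟨x, hxb⟩).asIdeal :=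
        hU'.isLocalization_stalk ⟨x, hxb⟩
      rw [SetLike.mem_coe, ← IsLocalization.AtPrime.under_maximalIdeal (X.presheaf.stalk x)
        (hU'.primeIdealOf ⟨x, hxb⟩).asIdeal]
      exact hmem _ (hgerm ▸ List.mem_map_of_mem hg)
    obtain ⟨z, hz⟩ : hU'.primeIdealOf ⟨x, hxb⟩ ∈ Set.range
        (PrimeSpectrum.comap (Ideal.Quotient.mk (Ideal.ofList fs'))) := by
      rw [range_comap_of_surjective _ _ Ideal.Quotient.mk_surjective, Ideal.mk_ker]
      exact hle
    exact ⟨z, (congrArg hU'.fromSpec hz).trans (hU'.fromSpec_primeIdealOf ⟨x, hxb⟩)⟩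
  · rw [hgf]
    have h1 := hT.2 fs'.length (by simp [fs', U'])
    rw [show (fs.map (algebraMap Γ(X, U) Γ(X, X.basicOpen b))) = fs' from rfl, List.take_length] at h1
    haveI : Flat (Spec.map (CommRingCat.ofHom ((Ideal.Quotient.mk (Ideal.ofList fs')).comp
        (f.appLE V U' e').hom))) :=
      (HasRingHomProperty.Spec_iff (P := @Flat)).2 (RingHom.flat_algebraMap_iff.mpr h1)
    infer_instance
  · rw [hgf]
    haveI : LocallyOfFinitePresentation (Spec.map (CommRingCat.ofHom
        ((Ideal.Quotient.mk (Ideal.ofList fs')).comp (f.appLE V U' e').hom))) :=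
      (HasRingHomProperty.Spec_iff (P := @LocallyOfFinitePresentation)).2
        ((LocallyOfFinitePresentation.finitePresentation_appLE f hV hU' e').comp_surjective
          Ideal.Quotient.mk_surjective (by classical rw [Ideal.mk_ker]; exact ⟨fs'.toFinset, by simp [Ideal.ofList]⟩))
    infer_instance
  · intro z
    let j := Spec.map (CommRingCat.ofHom (Ideal.Quotient.mk (Ideal.ofList fs')))
    haveI : IsClosedImmersion j := IsClosedImmersion.spec_of_surjective _ Ideal.Quotient.mk_surjective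
    haveI : IsAffine U'.toScheme := hU'
    let Ut : U'.toScheme.Opens := ⊤
    have eU : Ut ≤ (U'.ι ≫ f) ⁻¹ᵁ V := fun y _ => e' y.2
    refine ⟨⟨Ut, isAffineOpen_top _⟩, ⟨V, hV⟩, eU, trivial,
      MorphismProperty.of_isPullback (isPullback_morphismRestrict _ _).flip inferInstance,
      fs'.map U'.topIso.inv, ?_, ?_⟩
    · letI := ((U'.ι ≫ f).appLE V Ut eU).hom.toAlgebra
      let t : Γ(X, U') ≃+* Γ(U'.toScheme, Ut) := U'.topIso.symm.commRingCatIsoToRingEquiv
      exact H29Slice.isTransRegularSeq_of_algEquiv (L := Γ(X, U')) (L' := Γ(U'.toScheme, Ut))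
        (AlgEquiv.ofRingEquiv (f := t) fun a => by
          show U'.topIso.inv (f.appLE V U' e' a) = (U'.ι ≫ f).appLE V Ut eU a
          have h1 : f.appLE V U' e' ≫ U'.topIso.inv = (U'.ι ≫ f).appLE V Ut eU := by
            simp [Scheme.Hom.appLE, Ut, ← Functor.map_comp]
            rfl
          exact congrArg (fun m => m a) h1) hT
    · show RingHom.ker ((j ≫ hU'.isoSpec.inv).appTop).hom = _
      rw [Scheme.Hom.comp_appTop, IsAffineOpen.isoSpec_inv_appTop]
      simp only [Category.assoc, j, ← Scheme.ΓSpecIso_inv_naturality]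
      rw [CommRingCat.hom_comp, CommRingCat.hom_comp, RingHom.comp_assoc,
        RingHom.ker_comp_of_injective _ (show Function.Injective (Scheme.ΓSpecIso _).inv.hom from
          (ConcreteCategory.bijective_of_isIso (Scheme.ΓSpecIso _).inv).1),
        CommRingCat.hom_ofHom, ← RingHom.comap_ker]
      show (RingHom.ker (Ideal.Quotient.mk (Ideal.ofList fs'))).comap U'.topIso.hom.hom = _
      rw [Ideal.mk_ker, ← Ideal.map_ofList U'.topIso.inv.hom fs']
      exact (Ideal.map_symm U'.topIso.commRingCatIsoToRingEquiv).symm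

end Groth.Agent.H8Props.SliceTools
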