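import Groth.Agent.H29Slice.Scheme
import Groth.Agent.H8Props.FibreStalk
import Groth.Prelude.Def_CAlg
import Mathlib

/-!
# Tools for slicing at a point
-/

set_option autoImplicit false
set_option linter.style.haveILetI false
universe u

open AlgebraicGeometry CategoryTheory CategoryTheory.Limits IsLocalRing TopologicalSpace

namespace Groth.Agent.H8Props.SliceTools

/-- Affine chart inside the flat locus around a point, inside a given open. -/
theorem exists_flat_chart {X S : Scheme.{u}} (f : X ⟶ S) [LocallyOfFinitePresentation f] (x : X)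
    (hflat : (f.stalkMap x).hom.Flat) (W : X.Opens) (hx : x ∈ W) :
    ∃ (V : S.Opens) (_ : IsAffineOpen V) (U : X.Opens) (_ : IsAffineOpen U) (e : U ≤ f ⁻¹ᵁ V),
      x ∈ U ∧ U ≤ W ∧ (f.appLE V U e).hom.Flat := by
  let O : X.Opens := ⟨_, FlatLocus.isOpen_setOf_flat_stalkMap f⟩
  obtain ⟨V, hV, hxV, -⟩ := exists_isAffineOpen_mem_and_subset (U := (⊤ : S.Opens)) (x := f x) trivial
  obtain ⟨U, hU, hxU, hle⟩ := exists_isAffineOpen_mem_and_subset
    (U := W ⊓ O ⊓ f ⁻¹ᵁ V) (x := x) ⟨⟨hx, hflat⟩, hxV⟩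
  exact ⟨V, hV, U, hU, fun y hy => (hle hy).2, hxU, fun y hy => (hle hy).1.1,
    H29Slice.flat_appLE_of_flat_stalkMap f hV hU _ fun y hy => (hle hy).1.2⟩

/-- Positive depth gives a regular element in the maximal ideal. -/
theorem exists_regular_of_depth {R : Type u} [CommRing R] [IsLocalRing R]
    (h : 1 ≤ LocCoh.depth R R) : ∃ r ∈ maximalIdeal R, r ∈ nonZeroDivisors R := by
  classical
  have hne : maximalIdeal R • (⊤ : Submodule R R) ≠ ⊤ := by
    rw [smul_eq_mul, Ideal.mul_top]; exact (maximalIdeal.isMaximal R).ne_top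
  rw [LocCoh.depth, LocCoh.idealDepth, if_neg hne] at h
  by_contra hc
  push Not at hc
  refine absurd (h.trans (iSup₂_le fun rs hrs => ?_)) (by simp : ¬ (1 : ℕ∞) ≤ 0)
  rcases rs with _ | ⟨r, rs⟩
  · simp
  · refine absurd ?_ (hc r (hrs.2 r (List.mem_cons_self ..)))
    have h1 : IsSMulRegular R r := ((RingTheory.Sequence.isWeaklyRegular_cons_iff R r rs).1 hrs.1).1
    exact mem_nonZeroDivisors_iff_right.2 fun z hz => h1 (show r • z = r • 0 by
      rw [smul_zero, smul_eq_mul, mul_comm, hz])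

/-- A germ in the maximal ideal that is regular on the fibre cuts out a flat closed subscheme. -/
theorem exists_flat_slice {X S : Scheme.{u}} (f : X ⟶ S) [LocallyOfFinitePresentation f] (x : X)
    (hflat : (f.stalkMap x).hom.Flat) (W : X.Opens) (hW : x ∈ W) (r : X.presheaf.stalk x)
    (hm : r ∈ maximalIdeal (X.presheaf.stalk x))
    (hreg : Ideal.Quotient.mk (Ideal.map (f.stalkMap x).hom (maximalIdeal (S.presheaf.stalk (f x)))) r ∈
      nonZeroDivisors
        (X.presheaf.stalk x ⧸ Ideal.map (f.stalkMap x).hom (maximalIdeal (S.presheaf.stalk (f x))))) :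
    ∃ (U : X.Opens) (hU : IsAffineOpen U) (hx : x ∈ U) (h' : Γ(X, U)), U ≤ W ∧
      X.presheaf.germ U x hx h' = r ∧ h' ∈ nonZeroDivisors Γ(X, U) ∧
      Flat (Spec.map (CommRingCat.ofHom (Ideal.Quotient.mk (Ideal.span {h'}))) ≫ hU.fromSpec ≫ f) ∧
      LocallyOfFinitePresentation
        (Spec.map (CommRingCat.ofHom (Ideal.Quotient.mk (Ideal.span {h'}))) ≫ hU.fromSpec ≫ f) := by
  obtain ⟨W', hxW', s', rfl⟩ := X.presheaf.exists_germ_eq r
  obtain ⟨V, hV, U, hU, e, hxU, hUW, hfl⟩ := exists_flat_chart f x hflat (W ⊓ W') ⟨hW, hxW'⟩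
  let i : U ≤ W' := hUW.trans inf_le_right
  have hg : X.presheaf.germ U x hxU (X.presheaf.map (homOfLE i).op s') = X.presheaf.germ W' x hxW' s' :=
    TopCat.Presheaf.germ_res_apply ..
  obtain ⟨b, hxb, hnz, hflb⟩ := H29Slice.exists_slice_scheme f hV hU e hfl x hxU _
    (by rw [hg]; exact hm) (by rw [hg]; exact hreg)
  have hb : IsAffineOpen (X.basicOpen b) := hU.basicOpen b
  set h' := X.presheaf.map (homOfLE (X.basicOpen_le b)).op (X.presheaf.map (homOfLE i).op s') with hh'
  have hgf : Spec.map (CommRingCat.ofHom (Ideal.Quotient.mk (Ideal.span {h'}))) ≫ hb.fromSpec ≫ f =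
      Spec.map (CommRingCat.ofHom ((Ideal.Quotient.mk (Ideal.span {h'})).comp
        (f.appLE V (X.basicOpen b) ((X.basicOpen_le b).trans e)).hom)) ≫ hV.fromSpec := by
    rw [← IsAffineOpen.SpecMap_appLE_fromSpec f hV hb ((X.basicOpen_le b).trans e), ← Spec.map_comp_assoc]
    rfl
  haveI := hV.isOpenImmersion_fromSpec
  refine ⟨X.basicOpen b, hb, hxb, h', fun y hy => (hUW (X.basicOpen_le b hy)).1, ?_, hnz, ?_, ?_⟩
  · rw [hh', TopCat.Presheaf.germ_res_apply, hg]
  · rw [hgf]
    haveI : Flat (Spec.map (CommRingCat.ofHom ((Ideal.Quotient.mk (Ideal.span {h'})).comp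
        (f.appLE V (X.basicOpen b) ((X.basicOpen_le b).trans e)).hom))) :=
      (HasRingHomProperty.Spec_iff (P := @Flat)).2 hflb
    infer_instance
  · rw [hgf]
    haveI : LocallyOfFinitePresentation (Spec.map (CommRingCat.ofHom
        ((Ideal.Quotient.mk (Ideal.span {h'})).comp
          (f.appLE V (X.basicOpen b) ((X.basicOpen_le b).trans e)).hom))) :=
      (HasRingHomProperty.Spec_iff (P := @LocallyOfFinitePresentation)).2
        ((LocallyOfFinitePresentation.finitePresentation_appLE f hV hb _).comp_surjective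
          Ideal.Quotient.mk_surjective (by rw [Ideal.mk_ker]; exact Submodule.fg_span_singleton h'))
    infer_instance

end Groth.Agent.H8Props.SliceTools
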