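import Groth.Agent.H8Props.SliceTools.SmoothCut
import Mathlib

/-!
# Nonvanishing differentials for separable residue extensions
-/

set_option autoImplicit false
set_option linter.style.haveILetI false
set_option backward.isDefEq.respectTransparency false
set_option backward.defeqAttrib.useBackward true
universe u

open AlgebraicGeometry CategoryTheory CategoryTheory.Limits IsLocalRing TopologicalSpace TensorProduct

namespace Groth.Agent.H8Props.SliceTools

/-- A local algebra with separable residue extension whose closed fibre is not a field has an element of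
the maximal ideal with nonvanishing differential at the closed point. -/
theorem exists_D_ne_zero_of_separable {A R : Type u} [CommRing A] [CommRing R] [IsLocalRing A] [IsLocalRing R]
    [Algebra A R] [IsLocalHom (algebraMap A R)] [Algebra.EssFiniteType A R]
    [Algebra.FormallySmooth (ResidueField A) (ResidueField R)]
    (hne : (maximalIdeal A).map (algebraMap A R) ≠ maximalIdeal R) :
    ∃ r ∈ maximalIdeal R, (1 : ResidueField R) ⊗ₜ[R] KaehlerDifferential.D A R r ≠ 0 := by
  let k := ResidueField A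
  let J : Ideal R := (maximalIdeal A).map (algebraMap A R)
  have hJm : J ≤ maximalIdeal R := map_maximalIdeal_le (algebraMap A R)
  let J₂ : Ideal R := J ⊔ maximalIdeal R * maximalIdeal R
  have hJ₂m : J₂ ≤ maximalIdeal R := sup_le hJm Ideal.mul_le_left
  -- the closed fibre is Noetherian
  letI algk : Algebra k (R ⧸ J) :=
    (Ideal.quotientMap J (algebraMap A R) Ideal.le_comap_map).toAlgebra
  haveI : IsScalarTower A k (R ⧸ J) :=
    IsScalarTower.of_algebraMap_eq (R := A) (S := k) (A := R ⧸ J) fun _ => rfl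
  haveI : Algebra.EssFiniteType A (R ⧸ J) := Algebra.EssFiniteType.comp A R (R ⧸ J)
  haveI : Algebra.EssFiniteType k (R ⧸ J) := Algebra.EssFiniteType.of_comp A k (R ⧸ J)
  haveI : IsNoetherianRing (R ⧸ J) := Algebra.EssFiniteType.isNoetherianRing k (R ⧸ J)
  have hne₂ : J₂ ≠ maximalIdeal R := by
    intro h
    refine hne (le_antisymm hJm ?_)
    let M : Ideal (R ⧸ J) := (maximalIdeal R).map (Ideal.Quotient.mk J)
    have hM : M ≤ M • M := by
      rw [smul_eq_mul, ← Ideal.map_mul]
      show Ideal.map _ _ ≤ _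
      conv_lhs => rw [← h]
      rw [Ideal.map_sup, Ideal.map_quotient_self, bot_sup_eq]
    haveI : Nontrivial (R ⧸ J) :=
      Ideal.Quotient.nontrivial_iff.mpr (ne_top_of_le_ne_top (maximalIdeal.isMaximal R).ne_top hJm)
    haveI : IsLocalRing (R ⧸ J) := .of_surjective' _ Ideal.Quotient.mk_surjective
    have hMj : M ≤ Ideal.jacobson ⊥ := by
      rw [IsLocalRing.jacobson_eq_maximalIdeal _ bot_ne_top]
      refine le_maximalIdeal fun htop => ?_
      have h1 : maximalIdeal R ⊔ J = ⊤ := by
        have := congrArg (Ideal.comap (Ideal.Quotient.mk J)) htop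
        rwa [Ideal.comap_map_of_surjective _ Ideal.Quotient.mk_surjective, ← RingHom.ker_eq_comap_bot,
          Ideal.mk_ker, Ideal.comap_top] at this
      exact (maximalIdeal.isMaximal R).ne_top (by rwa [sup_eq_left.mpr hJm] at h1)
    have h0 : M = ⊥ := Submodule.eq_bot_of_le_smul_of_le_jacobson_bot M M (IsNoetherian.noetherian M) hM hMj
    rwa [Ideal.map_eq_bot_iff_le_ker, Ideal.mk_ker] at h0
  obtain ⟨r, hr, hr₂⟩ := SetLike.exists_of_lt (lt_of_le_of_ne hJ₂m hne₂)
  refine ⟨r, hr, fun h0 => hr₂ ?_⟩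
  -- a section of the residue map modulo `m_A R + m²`
  let R' := R ⧸ J₂
  letI : Algebra k R' :=
    (Ideal.quotientMap J₂ (algebraMap A R) (Ideal.map_le_iff_le_comap.mp le_sup_left)).toAlgebra
  haveI : IsScalarTower A k R' := IsScalarTower.of_algebraMap_eq (R := A) (S := k) (A := R') fun _ => rfl
  let π : R' →ₐ[k] ResidueField R :=
    { Ideal.Quotient.factor hJ₂m with
      commutes' := fun a => by
        obtain ⟨a, rfl⟩ := Ideal.Quotient.mk_surjective a
        rfl }
  have hπ : Function.Surjective π := Ideal.Quotient.factor_surjective hJ₂m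
  have hsq : IsNilpotent (RingHom.ker (π : R' →+* ResidueField R)) := by
    refine ⟨2, ?_⟩
    have hker : RingHom.ker (π : R' →+* ResidueField R) = (maximalIdeal R).map (Ideal.Quotient.mk J₂) :=
      Ideal.Quotient.factor_ker hJ₂m
    rw [hker, pow_two, ← Ideal.map_mul, Submodule.zero_eq_bot, Ideal.map_eq_bot_iff_le_ker, Ideal.mk_ker]
    exact le_sup_right
  let σ := Algebra.FormallySmooth.liftOfSurjective (AlgHom.id k (ResidueField R)) π hπ hsq
  have hσ : ∀ z, π (σ z) = z := Algebra.FormallySmooth.liftOfSurjective_apply _ π hπ hsq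
  have hmk : ∀ a : R, π (Ideal.Quotient.mk J₂ a) = residue R a := fun a => rfl
  let d₀ : R → R' := fun a => Ideal.Quotient.mk J₂ a - σ (residue R a)
  have hd₀ : ∀ a, ∃ m ∈ maximalIdeal R, d₀ a = Ideal.Quotient.mk J₂ m := fun a => by
    obtain ⟨m, hm⟩ := Ideal.Quotient.mk_surjective (d₀ a)
    refine ⟨m, ?_, hm.symm⟩
    rw [← IsLocalRing.residue_eq_zero_iff, ← hmk, hm]
    show π (_ - _) = 0
    rw [map_sub, hσ, hmk, sub_self]
  have hmul : ∀ a b, d₀ a * d₀ b = 0 := fun a b => by
    obtain ⟨m, hm, e⟩ := hd₀ a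
    obtain ⟨m', hm', e'⟩ := hd₀ b
    rw [e, e', ← map_mul, Ideal.Quotient.eq_zero_iff_mem]
    exact Ideal.mem_sup_right (Ideal.mul_mem_mul hm hm')
  let d : Derivation A R R' := Derivation.mk'
    { toFun := d₀
      map_add' := fun a b => by simp only [d₀, map_add]; ring
      map_smul' := fun c a => by
        have hc : σ (residue R (algebraMap A R c)) = Ideal.Quotient.mk J₂ (algebraMap A R c) :=
          σ.commutes (residue A c)
        simp only [d₀, RingHom.id_apply, Algebra.smul_def, map_mul, hc]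
        rw [IsScalarTower.algebraMap_apply A R R' c, Ideal.Quotient.algebraMap_eq]
        ring }
    fun a b => by
      show d₀ (a * b) = a • d₀ b + b • d₀ a
      have h1 := hmul a b
      simp only [d₀, Algebra.smul_def, Ideal.Quotient.algebraMap_eq, map_mul] at h1 ⊢
      linear_combination -h1
  have hdm : ∀ m ∈ maximalIdeal R, ∀ a, m • d a = 0 := fun m hm a => by
    obtain ⟨m', hm', e⟩ := hd₀ a
    show m • d₀ a = 0
    rw [e, Algebra.smul_def, Ideal.Quotient.algebraMap_eq, ← map_mul, Ideal.Quotient.eq_zero_iff_mem]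
    exact Ideal.mem_sup_right (Ideal.mul_mem_mul hm hm')
  have hL : ∀ ω ∈ (maximalIdeal R • ⊤ : Submodule R Ω[R⁄A]), d.liftKaehlerDifferential ω = 0 := by
    intro ω hω
    refine Submodule.smul_induction_on hω (fun m hm w _ => ?_) fun v w hv hw => ?_
    · rw [map_smul]
      have hw : w ∈ Submodule.span R (Set.range (KaehlerDifferential.D A R)) :=
        (KaehlerDifferential.span_range_derivation A R).ge trivial
      induction hw using Submodule.span_induction with
      | mem w hw =>
        obtain ⟨a, rfl⟩ := hw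
        rw [Derivation.liftKaehlerDifferential_comp_D]
        exact hdm m hm a
      | zero => rw [map_zero, smul_zero]
      | add v w _ _ hv hw => rw [map_add, smul_add, hv trivial, hw trivial, add_zero]
      | smul c v _ hv => rw [map_smul, smul_comm, hv trivial, smul_zero]
    · rw [map_add, hv, hw, add_zero]
  have hmem : KaehlerDifferential.D A R r ∈ (maximalIdeal R • ⊤ : Submodule R Ω[R⁄A]) := by
    have h1 := congrArg (TensorProduct.quotTensorEquivQuotSMul Ω[R⁄A] (maximalIdeal R)) h0
    rw [map_zero] at h1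
    have h2 : TensorProduct.quotTensorEquivQuotSMul Ω[R⁄A] (maximalIdeal R)
        ((1 : ResidueField R) ⊗ₜ[R] KaehlerDifferential.D A R r) =
        Submodule.Quotient.mk ((1 : R) • KaehlerDifferential.D A R r) :=
      TensorProduct.quotTensorEquivQuotSMul_mk_tmul _ _ _
    rw [one_smul] at h2
    exact (Submodule.Quotient.mk_eq_zero _).mp (h2.symm.trans h1)
  have := hL _ hmem
  rw [Derivation.liftKaehlerDifferential_comp_D] at this
  have hdr : d₀ r = Ideal.Quotient.mk J₂ r := by
    show _ - σ (residue R r) = _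
    rw [(IsLocalRing.residue_eq_zero_iff r).mpr hr, map_zero, sub_zero]
  rw [← Ideal.Quotient.eq_zero_iff_mem, ← hdr]
  exact this

theorem maximalIdeal_stalk_spec_field (K : CommRingCat.{u}) (hK : IsField K) (p : Spec K) :
    maximalIdeal ↑((Spec K).presheaf.stalk p) = ⊥ := by
  letI := hK.toField
  haveI : IsDomain K := inferInstance
  haveI : Subsingleton (PrimeSpectrum K) := inferInstance
  haveI : Subsingleton ↥(Spec K) := ‹Subsingleton (PrimeSpectrum K)›
  obtain rfl : p = genericPoint ↥(Spec K) := Subsingleton.elim _ _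
  exact (IsLocalRing.isField_iff_maximalIdeal_eq).mp (Field.toIsField (Spec K).functionField)

theorem map_maximalIdeal_ne_of_fiber_point {X S : Scheme.{u}} (f : X ⟶ S) {y : S} (v : f.fiber y)
    (hgen : IsLocalRing.maximalIdeal ↑((f.fiber y).presheaf.stalk v) ≠ ⊥) :
    Ideal.map (f.stalkMap (f.fiberι y v)).hom (maximalIdeal ↑(S.presheaf.stalk (f (f.fiberι y v)))) ≠
      maximalIdeal _ := by
  intro h
  refine hgen (eq_bot_iff.mpr fun z hz => ?_)
  obtain ⟨a, rfl⟩ := (f.fiberι y).stalkMap_surjective v z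
  have ha : a ∈ maximalIdeal ↑(X.presheaf.stalk (f.fiberι y v)) := fun hu => hz (hu.map _)
  rw [← h] at ha
  suffices hle : Ideal.map (f.stalkMap (f.fiberι y v)).hom (maximalIdeal _) ≤
      RingHom.ker ((f.fiberι y).stalkMap v).hom from hle ha
  rw [Ideal.map_le_iff_le_comap]
  intro b hb
  show (f.fiberι y).stalkMap v (f.stalkMap (f.fiberι y v) b) = 0
  have e1 : (f.fiberι y ≫ f).stalkMap v b = (f.fiberι y).stalkMap v (f.stalkMap (f.fiberι y v) b) := by
    rw [Scheme.Hom.stalkMap_comp]; rfl
  rw [← e1]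
  have e2 := congr($(Scheme.Hom.stalkMap_congr_hom _ _ (f.fiber_fac y) v) b)
  refine e2.trans ?_
  rw [Scheme.Hom.stalkMap_comp]
  refine Eq.trans (congrArg ((f.fiberToSpecResidueField y).stalkMap v) ?_) (map_zero _)
  have hz' := map_nonunit ((S.fromSpecResidueField y).stalkMap (f.fiberToSpecResidueField y v)).hom _
    (map_nonunit (S.presheaf.stalkCongr (.of_eq (congr($(f.fiber_fac y) v)))).hom.hom _ hb)
  exact (Submodule.mem_bot _).mp
    ((maximalIdeal_stalk_spec_field _ (Field.toIsField (S.residueField y)) _).le hz')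

theorem map_maximalIdeal_ne_of_fiber {X S : Scheme.{u}} (f : X ⟶ S) (x : X)
    (hgen : IsLocalRing.maximalIdeal ↑((f.fiber (f x)).presheaf.stalk (f.asFiber x)) ≠ ⊥) :
    Ideal.map (f.stalkMap x).hom (maximalIdeal ↑(S.presheaf.stalk (f x))) ≠ maximalIdeal _ := by
  have key : ∀ x' : X, f.fiberι (f x) (f.asFiber x) = x' →
      Ideal.map (f.stalkMap x').hom (maximalIdeal ↑(S.presheaf.stalk (f x'))) ≠ maximalIdeal _ := by
    rintro _ rfl
    exact map_maximalIdeal_ne_of_fiber_point f (f.asFiber x) hgen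
  exact key x (f.fiberι_asFiber x)

theorem essFiniteType_stalkMap_of_open {X S : Scheme.{u}} (f : X ⟶ S) (x : X) (W : X.Opens) (hxW : x ∈ W)
    [LocallyOfFiniteType (W.ι ≫ f)] : (f.stalkMap x).hom.EssFiniteType := by
  have h := LocallyOfFiniteType.stalkMap (f := W.ι ≫ f) ⟨x, hxW⟩
  rw [Scheme.Hom.stalkMap_comp] at h
  exact (RingHom.EssFiniteType.respectsIso.cancel_right_isIso (f.stalkMap x) (W.ι.stalkMap ⟨x, hxW⟩)).mp h

theorem smoothCut_separable {X S : Scheme.{u}} (f : X ⟶ S) (x : X)
    (W : X.Opens) (hxW : x ∈ W) (hW : Smooth (W.ι ≫ f))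
    (hsep : letI := (f.residueFieldMap x).hom.toAlgebra
      Algebra.FormallySmooth (S.residueField (f x)) (X.residueField x))
    (hgen : IsLocalRing.maximalIdeal ↑((f.fiber (f x)).presheaf.stalk (f.asFiber x)) ≠ ⊥) :
    ∃ (U : X.Opens) (hU : IsAffineOpen U) (hx : x ∈ U) (h' : Γ(X, U)), h' ∈ nonZeroDivisors Γ(X, U) ∧
      X.presheaf.germ U x hx h' ∈ IsLocalRing.maximalIdeal ↑(X.presheaf.stalk x) ∧
      Smooth (Spec.map (CommRingCat.ofHom (Ideal.Quotient.mk (Ideal.span {h'}))) ≫ hU.fromSpec ≫ f) := by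
  haveI := hW
  letI := (f.stalkMap x).hom.toAlgebra
  haveI : IsLocalHom (algebraMap (S.presheaf.stalk (f x)) (X.presheaf.stalk x)) :=
    inferInstanceAs (IsLocalHom (f.stalkMap x).hom)
  haveI : Algebra.EssFiniteType (S.presheaf.stalk (f x)) (X.presheaf.stalk x) :=
    essFiniteType_stalkMap_of_open f x W hxW
  haveI : Algebra.FormallySmooth (ResidueField ↑(S.presheaf.stalk (f x))) (ResidueField ↑(X.presheaf.stalk x)) := by
    convert! hsep using 1
    exact Algebra.algebra_ext _ _ fun a => by
      obtain ⟨a, rfl⟩ := residue_surjective a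
      rfl
  obtain ⟨r, hm, hd⟩ := exists_D_ne_zero_of_separable (A := S.presheaf.stalk (f x)) (R := X.presheaf.stalk x)
    (map_maximalIdeal_ne_of_fiber f x hgen)
  exact smoothCut f x W hxW hW r hm hd

end Groth.Agent.H8Props.SliceTools
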