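import Groth.Agent.H8Props.SliceTools.Basic
import Groth.Agent.H05EGA4.NormalAscent
import Groth.Agent.H29Slice.TransReg
import Mathlib

/-!
# Smooth hypersurface sections through a point
-/

set_option autoImplicit false
set_option linter.style.haveILetI false
set_option backward.isDefEq.respectTransparency false
set_option backward.defeqAttrib.useBackward true
universe u

open AlgebraicGeometry CategoryTheory CategoryTheory.Limits IsLocalRing TopologicalSpace TensorProduct

namespace Groth.Agent.H8Props.SliceTools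

/-- An element with nonvanishing differential at the closed point cuts a formally smooth quotient. -/
theorem formallySmooth_quotient_span {A R : Type u} [CommRing A] [CommRing R] [IsLocalRing R]
    [Algebra A R] [Algebra.FormallySmooth A R] [Module.Free R Ω[R⁄A]] [Module.Finite R Ω[R⁄A]]
    (h : R) (hm : h ∈ maximalIdeal R)
    (hd : (1 : ResidueField R) ⊗ₜ[R] KaehlerDifferential.D A R h ≠ 0) :
    Algebra.FormallySmooth A (R ⧸ Ideal.span {h}) := by
  have hle : Ideal.span {h} ≤ maximalIdeal R := (Ideal.span_singleton_le_iff_mem _).mpr hm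
  haveI : Nontrivial (R ⧸ Ideal.span {h}) :=
    Ideal.Quotient.nontrivial_iff.mpr (ne_top_of_le_ne_top (maximalIdeal.isMaximal R).ne_top hle)
  haveI : IsLocalRing (R ⧸ Ideal.span {h}) := .of_surjective' _ Ideal.Quotient.mk_surjective
  letI : Algebra (R ⧸ Ideal.span {h}) (ResidueField R) := (Ideal.Quotient.factor hle).toAlgebra
  haveI : IsScalarTower R (R ⧸ Ideal.span {h}) (ResidueField R) := IsScalarTower.of_algebraMap_eq' rfl
  have hk : RingHom.ker (algebraMap R (R ⧸ Ideal.span {h})) = Ideal.span {h} := Ideal.mk_ker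
  rw [Algebra.FormallySmooth.iff_injective_cotangentComplexBaseChange R (ResidueField R)
    Ideal.Quotient.mk_surjective (by rw [hk]; exact Submodule.fg_span_singleton h) ?_]
  · set φ := KaehlerDifferential.cotangentComplexBaseChange A (R ⧸ Ideal.span {h}) R (ResidueField R)
    let g : RingHom.ker (algebraMap R (R ⧸ Ideal.span {h})) := ⟨h, hk.symm ▸ Ideal.mem_span_singleton_self h⟩
    have hspan : ∀ z, ∃ c : ResidueField R, z = c ⊗ₜ[R] g := by
      intro z
      induction z using TensorProduct.induction_on with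
      | zero => exact ⟨0, (TensorProduct.zero_tmul _ _).symm⟩
      | tmul c k =>
        obtain ⟨a, ha⟩ := Ideal.mem_span_singleton'.mp (hk.le k.2)
        refine ⟨a • c, ?_⟩
        rw [TensorProduct.smul_tmul]
        exact congrArg _ (Subtype.ext ha.symm)
      | add x y hx hy =>
        obtain ⟨c, rfl⟩ := hx
        obtain ⟨c', rfl⟩ := hy
        exact ⟨c + c', (TensorProduct.add_tmul _ _ _).symm⟩
    rw [injective_iff_map_eq_zero]
    intro z hz
    obtain ⟨c, rfl⟩ := hspan z
    have h1 : φ (c ⊗ₜ[R] g) = c • ((1 : ResidueField R) ⊗ₜ[R] KaehlerDifferential.D A R h) := by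
      show c • KaehlerDifferential.kerToTensor A R (ResidueField R) ⟨h, _⟩ = _
      rw [KaehlerDifferential.kerToTensor_apply]
    rw [h1, smul_eq_zero] at hz
    rw [hz.resolve_right hd, TensorProduct.zero_tmul]
  · intro z hz
    obtain ⟨a, rfl⟩ := Ideal.Quotient.mk_surjective z
    show residue R a = 0
    rw [residue_eq_zero_iff]
    intro hu
    exact hz (hu.map _)

/-- An element of `𝔭R` has vanishing differential at the closed point. -/
theorem tmul_D_eq_zero {A R : Type u} [CommRing A] [CommRing R] [IsLocalRing R] [Algebra A R]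
    (p : Ideal A) (hp : p.map (algebraMap A R) ≤ maximalIdeal R) {h : R}
    (hh : h ∈ p.map (algebraMap A R)) :
    (1 : ResidueField R) ⊗ₜ[R] KaehlerDifferential.D A R h = 0 := by
  induction hh using Submodule.span_induction with
  | mem x hx => obtain ⟨a, -, rfl⟩ := hx; simp
  | zero => simp
  | add x y _ _ hx hy => rw [map_add, TensorProduct.tmul_add, hx, hy, add_zero]
  | smul r x hx hrx =>
    have h1 : residue R x = 0 := (IsLocalRing.residue_eq_zero_iff x).mpr (hp hx)
    rw [smul_eq_mul, Derivation.leibniz, TensorProduct.tmul_add, TensorProduct.tmul_smul, hrx, smul_zero,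
      zero_add, TensorProduct.tmul_smul, TensorProduct.smul_tmul', ← Algebra.algebraMap_eq_smul_one,
      show algebraMap R (ResidueField R) x = 0 from h1, TensorProduct.zero_tmul]

/-- The local rings of the fibres of a smooth algebra are domains. -/
theorem isDomain_fibre_of_smooth (A B R : Type u) [CommRing A] [CommRing B] [CommRing R] [Algebra A B]
    [Algebra B R] [Algebra A R] [IsScalarTower A B R] [Algebra.Smooth A B] (q : Ideal B) [q.IsPrime]
    [IsLocalization.AtPrime R q] :
    IsDomain (R ⧸ (q.comap (algebraMap A B)).map (algebraMap A R)) := by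
  haveI := H05EGA4.isRegularLocalRing_fibLocRing_of_smooth A B q
  haveI : IsDomain (EGA4.FibLocRing A B q) := H4Depth.isDomain_of_isRegularLocalRing _
  let e : R ≃ₐ[A] Localization.AtPrime q :=
    (IsLocalization.algEquiv q.primeCompl R (Localization.AtPrime q)).restrictScalars A
  exact (Ideal.quotientEquiv _ ((q.comap (algebraMap A B)).map (algebraMap A (Localization.AtPrime q)))
    e.toRingEquiv (by
      rw [Ideal.map_map]
      congr 1
      ext a
      exact (e.commutes a).symm)).toMulEquiv.isDomain _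

/-- Smoothness of the quotient by an element with nonvanishing differential, near a prime. -/
theorem exists_smooth_quotient {A B R : Type u} [CommRing A] [CommRing B] [CommRing R] [Algebra A B]
    [Algebra B R] [Algebra A R] [IsScalarTower A B R] [Algebra.FinitePresentation A B] (q : Ideal B)
    [q.IsPrime] [IsLocalization.AtPrime R q] (h : B) (hq : h ∈ q)
    (hfs : Algebra.FormallySmooth A (R ⧸ Ideal.span {algebraMap B R h})) :
    ∃ b ∉ q, ∀ (L : Type u) [CommRing L] [Algebra A L] [Algebra B L] [IsScalarTower A B L]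
      [IsLocalization.Away b L], Algebra.Smooth A (L ⧸ Ideal.span {algebraMap B L h}) := by
  let I : Ideal B := Ideal.span {h}
  have hIq : I ≤ q := (Ideal.span_singleton_le_iff_mem _).mpr hq
  let C := B ⧸ I
  haveI : Algebra.FinitePresentation A C :=
    Algebra.FinitePresentation.quotient (Submodule.fg_span_singleton _)
  let qC : Ideal C := q.map (Ideal.Quotient.mk I)
  haveI : qC.IsPrime := Ideal.map_isPrime_of_surjective Ideal.Quotient.mk_surjective (by rwa [Ideal.mk_ker])
  have hqC : ∀ x : B, Ideal.Quotient.mk I x ∈ qC ↔ x ∈ q := fun x => by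
    rw [Ideal.mem_quotient_iff_mem hIq]
  have hM : Algebra.algebraMapSubmonoid C q.primeCompl = qC.primeCompl := by
    ext c
    obtain ⟨x, rfl⟩ := Ideal.Quotient.mk_surjective c
    constructor
    · rintro ⟨y, hy, hyx⟩ hx
      exact hy ((hqC y).mp (by
        have : Ideal.Quotient.mk I y = Ideal.Quotient.mk I x := hyx
        rw [this]; exact hx))
    · intro hx
      exact ⟨x, fun hxq => hx ((hqC x).mpr hxq), rfl⟩
  let K := I.map (algebraMap B R)
  have hK : K = Ideal.span {algebraMap B R h} := by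
    show (Ideal.span _).map _ = _
    rw [Ideal.map_span, Set.image_singleton]
  haveI : Algebra.FormallySmooth A (R ⧸ K) :=
    Algebra.FormallySmooth.of_equiv (Ideal.quotientEquivAlgOfEq A hK).symm
  haveI : IsScalarTower A C (R ⧸ K) :=
    IsScalarTower.of_algebraMap_eq (R := A) (S := C) (A := R ⧸ K) fun a =>
      congrArg (Ideal.Quotient.mk K) (IsScalarTower.algebraMap_apply A B R a)
  have hloc : IsLocalization (Algebra.algebraMapSubmonoid C q.primeCompl) (R ⧸ K) := inferInstance
  rw [hM] at hloc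
  haveI : IsLocalization.AtPrime (R ⧸ K) qC := hloc
  haveI : Algebra.IsSmoothAt A qC := Algebra.FormallySmooth.of_equiv
    ((IsLocalization.algEquiv qC.primeCompl (R ⧸ K) (Localization.AtPrime qC)).restrictScalars A)
  obtain ⟨c, hc, hsm⟩ := Algebra.IsSmoothAt.exists_notMem_smooth (R := A) qC
  obtain ⟨b, rfl⟩ := Ideal.Quotient.mk_surjective c
  refine ⟨b, fun hb => hc ((hqC b).mpr hb), fun L _ _ _ _ _ => ?_⟩
  let J := I.map (algebraMap B L)
  haveI : IsScalarTower A C (L ⧸ J) :=
    IsScalarTower.of_algebraMap_eq (R := A) (S := C) (A := L ⧸ J) fun a =>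
      congrArg (Ideal.Quotient.mk J) (IsScalarTower.algebraMap_apply A B L a)
  have hloc' : IsLocalization (Algebra.algebraMapSubmonoid C (Submonoid.powers b)) (L ⧸ J) := inferInstance
  rw [Algebra.algebraMapSubmonoid, Submonoid.map_powers] at hloc'
  haveI : IsLocalization.Away (Ideal.Quotient.mk I b) (L ⧸ J) := hloc'
  haveI : Algebra.Smooth A (L ⧸ J) := Algebra.Smooth.of_equiv
    ((IsLocalization.algEquiv (Submonoid.powers (Ideal.Quotient.mk I b))
      (Localization.Away (Ideal.Quotient.mk I b)) (L ⧸ J)).restrictScalars A)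
  exact Algebra.Smooth.of_equiv (Ideal.quotientEquivAlgOfEq A (show J = _ by
    show (Ideal.span _).map _ = _
    rw [Ideal.map_span, Set.image_singleton]))

/-- An element with nonvanishing differential at the point exists when the kernel is nonzero. -/
theorem exists_D_ne_zero {S R : Type u} [CommRing S] [CommRing R] [IsLocalRing R] [Algebra S R]
    [Algebra S (ResidueField R)] [IsScalarTower S R (ResidueField R)]
    (hker : LinearMap.ker (KaehlerDifferential.mapBaseChange S R (ResidueField R)) ≠ ⊥) :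
    ∃ r ∈ maximalIdeal R, (1 : ResidueField R) ⊗ₜ[R] KaehlerDifferential.D S R r ≠ 0 := by
  by_contra hc
  push Not at hc
  refine hker ((Submodule.eq_bot_iff _).mpr fun z hz => ?_)
  obtain ⟨c, rfl⟩ := (KaehlerDifferential.exact_kerCotangentToTensor_mapBaseChange S R (ResidueField R)
    residue_surjective z).mp hz
  obtain ⟨⟨r, hr⟩, rfl⟩ := Ideal.toCotangent_surjective _ c
  have hr' : r ∈ maximalIdeal R := (IsLocalRing.residue_eq_zero_iff r).mp hr
  exact (KaehlerDifferential.kerCotangentToTensor_toCotangent S R (ResidueField R) ⟨r, hr⟩).trans (hc r hr')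

theorem smoothCut_germ {X S : Scheme.{u}} (f : X ⟶ S) (x : X)
    (W : X.Opens) (hxW : x ∈ W) (hW : Smooth (W.ι ≫ f))
    (r : X.presheaf.stalk x) (hm : r ∈ maximalIdeal (X.presheaf.stalk x))
    (hd : letI := (f.stalkMap x).hom.toAlgebra
      (1 : ResidueField ↑(X.presheaf.stalk x)) ⊗ₜ[↑(X.presheaf.stalk x)]
        KaehlerDifferential.D ↑(S.presheaf.stalk (f x)) ↑(X.presheaf.stalk x) r ≠ 0) :
    ∃ (U : X.Opens) (hU : IsAffineOpen U) (hx : x ∈ U) (h' : Γ(X, U)), h' ∈ nonZeroDivisors Γ(X, U) ∧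
      X.presheaf.germ U x hx h' = r ∧
      Smooth (Spec.map (CommRingCat.ofHom (Ideal.Quotient.mk (Ideal.span {h'}))) ≫ hU.fromSpec ≫ f) := by
  haveI := hW
  obtain ⟨W₀, hxW₀, s₀, hs₀⟩ := X.presheaf.exists_germ_eq r
  obtain ⟨V, hV, hxV, -⟩ := exists_isAffineOpen_mem_and_subset (U := (⊤ : S.Opens)) (x := f x) trivial
  obtain ⟨U, hU, hxU, hle⟩ := exists_isAffineOpen_mem_and_subset
    (U := W ⊓ W₀ ⊓ f ⁻¹ᵁ V) (x := x) ⟨⟨hxW, hxW₀⟩, hxV⟩
  have e : U ≤ f ⁻¹ᵁ V := fun y hy => (hle hy).2
  have hUW : U ≤ W := fun y hy => (hle hy).1.1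
  let s : Γ(X, U) := X.presheaf.map (homOfLE (fun y hy => (hle hy).1.2)).op s₀
  have hs : X.presheaf.germ U x hxU s = r := by rw [← hs₀]; exact TopCat.Presheaf.germ_res_apply ..
  -- smoothness of the chart
  have hUs : Smooth (U.ι ≫ f) := by
    rw [← X.homOfLE_ι hUW, Category.assoc]; infer_instance
  haveI := hUs
  have hsmooth : (f.appLE V U e).hom.Smooth := by
    have eU : (⊤ : U.toScheme.Opens) ≤ (U.ι ≫ f) ⁻¹ᵁ V := fun y _ => e y.2
    haveI : IsAffine U.toScheme := hU
    have h1 := HasRingHomProperty.appLE (P := @Smooth) (U.ι ≫ f) hUs ⟨V, hV⟩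
      ⟨⊤, isAffineOpen_top _⟩ eU
    have h2 : (U.ι ≫ f).appLE V ⊤ eU = f.appLE V U e ≫ U.topIso.inv := by
      simp [Scheme.Hom.appLE, ← Functor.map_comp]
      rfl
    change ((U.ι ≫ f).appLE V ⊤ eU).hom.Smooth at h1
    rw [h2] at h1
    exact (RingHom.Smooth.respectsIso.cancel_right_isIso _ U.topIso.inv).mp h1
  letI := (f.appLE V U e).hom.toAlgebra
  haveI : Algebra.Smooth Γ(S, V) Γ(X, U) := hsmooth
  let q := hU.primeIdealOf ⟨x, hxU⟩
  let π : U := ⟨x, hxU⟩
  letI : Algebra Γ(X, U) (X.presheaf.stalk x) := (X.presheaf.germ U x hxU).hom.toAlgebra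
  haveI : IsLocalization.AtPrime (X.presheaf.stalk x) q.asIdeal := hU.isLocalization_stalk π
  let fx : Γ(S, V) →+* S.presheaf.stalk (f x) := (S.presheaf.germ V (f x) (e hxU)).hom
  letI : Algebra Γ(S, V) (S.presheaf.stalk (f x)) := fx.toAlgebra
  haveI : IsLocalization.AtPrime (S.presheaf.stalk (f x)) (hV.primeIdealOf ⟨f x, e hxU⟩).asIdeal :=
    hV.isLocalization_stalk ⟨f x, e hxU⟩
  letI algOO : Algebra (S.presheaf.stalk (f x)) (X.presheaf.stalk x) := (f.stalkMap x).hom.toAlgebra
  letI : Algebra Γ(S, V) (X.presheaf.stalk x) :=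
    ((algebraMap Γ(X, U) (X.presheaf.stalk x)).comp (algebraMap Γ(S, V) Γ(X, U))).toAlgebra
  haveI : IsScalarTower Γ(S, V) Γ(X, U) (X.presheaf.stalk x) := IsScalarTower.of_algebraMap_eq' rfl
  have hcomp : (f.stalkMap x).hom.comp fx =
      (algebraMap Γ(X, U) (X.presheaf.stalk x)).comp (algebraMap Γ(S, V) Γ(X, U)) := by
    refine RingHom.ext fun a => ?_
    show f.stalkMap x (S.presheaf.germ V (f x) (e hxU) a) = X.presheaf.germ U x hxU (f.appLE V U e a)
    rw [Scheme.Hom.germ_stalkMap_apply]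
    simp [Scheme.Hom.appLE]
  haveI : IsScalarTower Γ(S, V) (S.presheaf.stalk (f x)) (X.presheaf.stalk x) :=
    IsScalarTower.of_algebraMap_eq' hcomp.symm
  have hp : (hV.primeIdealOf ⟨f x, e hxU⟩).asIdeal = q.asIdeal.comap (algebraMap Γ(S, V) Γ(X, U)) := by
    rw [← IsLocalization.AtPrime.under_maximalIdeal (S.presheaf.stalk (f x)) (hV.primeIdealOf ⟨f x, e hxU⟩).asIdeal]
    show (maximalIdeal _).comap fx = q.asIdeal.comap (algebraMap Γ(S, V) Γ(X, U))
    rw [← IsLocalization.AtPrime.under_maximalIdeal (X.presheaf.stalk x) q.asIdeal, Ideal.comap_comap,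
      ← hcomp, ← Ideal.comap_comap, ((local_hom_TFAE (f.stalkMap x).hom).out 0 4 : IsLocalHom (f.stalkMap x).hom ↔ (maximalIdeal _).comap (f.stalkMap x).hom = maximalIdeal _).mp inferInstance]
  set p := q.asIdeal.comap (algebraMap Γ(S, V) Γ(X, U)) with hpdef
  have hI : Ideal.map (f.stalkMap x).hom (maximalIdeal (S.presheaf.stalk (f x))) =
      p.map (algebraMap Γ(S, V) (X.presheaf.stalk x)) := by
    rw [← IsLocalization.AtPrime.map_eq_maximalIdeal (hV.primeIdealOf ⟨f x, e hxU⟩).asIdeal
      (S.presheaf.stalk (f x)), hp, Ideal.map_map]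
    exact congrArg (fun φ => Ideal.map φ p) hcomp
  -- differential over the chart
  have hdA : (1 : ResidueField ↑(X.presheaf.stalk x)) ⊗ₜ[↑(X.presheaf.stalk x)]
      KaehlerDifferential.D Γ(S, V) ↑(X.presheaf.stalk x) r ≠ 0 := fun h0 => hd (by
    have := congrArg ((KaehlerDifferential.map Γ(S, V) (S.presheaf.stalk (f x)) (X.presheaf.stalk x)
      (X.presheaf.stalk x)).lTensor (ResidueField ↑(X.presheaf.stalk x))) h0
    rw [LinearMap.lTensor_tmul, KaehlerDifferential.map_D, map_zero] at this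
    exact this)
  have hpm : p.map (algebraMap Γ(S, V) (X.presheaf.stalk x)) ≤ maximalIdeal _ :=
    hI ▸ map_maximalIdeal_le (f.stalkMap x).hom
  haveI := isDomain_fibre_of_smooth Γ(S, V) Γ(X, U) (X.presheaf.stalk x) q.asIdeal
  have hreg : Ideal.Quotient.mk (Ideal.map (f.stalkMap x).hom (maximalIdeal (S.presheaf.stalk (f x)))) r ∈
      nonZeroDivisors (X.presheaf.stalk x ⧸ Ideal.map (f.stalkMap x).hom (maximalIdeal (S.presheaf.stalk (f x)))) := by
    haveI : IsDomain (X.presheaf.stalk x ⧸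
        Ideal.map (f.stalkMap x).hom (maximalIdeal (S.presheaf.stalk (f x)))) := by
      rw [hI]; infer_instance
    refine mem_nonZeroDivisors_of_ne_zero fun h0 => hdA (tmul_D_eq_zero p hpm ?_)
    rw [← hI]
    exact Ideal.Quotient.eq_zero_iff_mem.mp h0
  haveI : LocallyOfFinitePresentation (U.ι ≫ f) := inferInstance
  haveI : Algebra.FormallySmooth Γ(X, U) (X.presheaf.stalk x) :=
    Algebra.FormallySmooth.of_isLocalization q.asIdeal.primeCompl
  haveI : Algebra.FormallySmooth Γ(S, V) (X.presheaf.stalk x) :=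
    Algebra.FormallySmooth.comp Γ(S, V) Γ(X, U) (X.presheaf.stalk x)
  haveI : Algebra.EssFiniteType Γ(X, U) (X.presheaf.stalk x) :=
    Algebra.EssFiniteType.of_isLocalization _ q.asIdeal.primeCompl
  haveI : Algebra.EssFiniteType Γ(S, V) (X.presheaf.stalk x) :=
    Algebra.EssFiniteType.comp _ Γ(X, U) _
  haveI : Module.FinitePresentation (X.presheaf.stalk x) Ω[X.presheaf.stalk x⁄Γ(S, V)] := inferInstance
  haveI : Module.Free (X.presheaf.stalk x) Ω[X.presheaf.stalk x⁄Γ(S, V)] :=
    Module.free_of_flat_of_isLocalRing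
  have hfs := formallySmooth_quotient_span r hm hdA
  rw [← hs] at hfs
  have hsq : s ∈ q.asIdeal := by
    rw [← IsLocalization.AtPrime.under_maximalIdeal (X.presheaf.stalk x) q.asIdeal]
    show X.presheaf.germ U x hxU s ∈ maximalIdeal (X.presheaf.stalk x)
    rw [hs]; exact hm
  obtain ⟨c, hc, hcs⟩ := exists_smooth_quotient q.asIdeal s hsq hfs
  -- nonzerodivisor near the point
  have hflatA : (f.appLE V U e).hom.Flat := RingHom.flat_algebraMap_iff.mpr inferInstance
  haveI : Module.Flat Γ(S, V) Γ(X, U) := inferInstance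
  obtain ⟨b, hb, hbs⟩ := H29Slice.exists_slice (A := Γ(S, V)) s q hsq fun a t ht hmem => by
    have h1 : algebraMap Γ(X, U) (X.presheaf.stalk x) (s * a) ∈
        (p.map (algebraMap Γ(S, V) Γ(X, U))).map (algebraMap Γ(X, U) (X.presheaf.stalk x)) :=
      (IsLocalization.algebraMap_mem_map_algebraMap_iff q.asIdeal.primeCompl _ _ _).mpr ⟨t, ht, hmem⟩
    rw [Ideal.map_map, ← IsScalarTower.algebraMap_eq, ← hI, map_mul, ← Ideal.Quotient.eq_zero_iff_mem,
      map_mul, show algebraMap Γ(X, U) (X.presheaf.stalk x) s = r from hs, mul_comm] at h1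
    have h2 := (mem_nonZeroDivisors_iff_right.mp hreg) _ h1
    rw [Ideal.Quotient.eq_zero_iff_mem, hI, IsScalarTower.algebraMap_eq Γ(S, V) Γ(X, U),
      ← Ideal.map_map] at h2
    exact (IsLocalization.algebraMap_mem_map_algebraMap_iff q.asIdeal.primeCompl _ _ _).mp h2
  let U' := X.basicOpen (b * c)
  have hbc : b * c ∉ q.asIdeal := fun h => (q.isPrime.mem_or_mem h).elim hb hc
  have hxU' : x ∈ U' := by
    have h0 : q ∈ hU.fromSpec ⁻¹ᵁ X.basicOpen (b * c) := by
      rw [hU.fromSpec_preimage_basicOpen]; exact hbc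
    have h1 : hU.fromSpec q = x := hU.fromSpec_primeIdealOf ⟨x, hxU⟩
    rw [← h1]
    exact h0
  have hU' : IsAffineOpen U' := hU.basicOpen _
  let h' : Γ(X, U') := X.presheaf.map (homOfLE (X.basicOpen_le (b * c))).op s
  let Lb := Localization.Away b
  let Lc := Localization.Away c
  letI : Algebra Γ(X, U) Γ(X, U') :=
    (X.presheaf.map (homOfLE (X.basicOpen_le (b * c))).op).hom.toAlgebra
  let e' : U' ≤ f ⁻¹ᵁ V := (X.basicOpen_le _).trans e
  letI : Algebra Γ(S, V) Γ(X, U') := (f.appLE V U' e').hom.toAlgebra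
  haveI : IsScalarTower Γ(S, V) Γ(X, U) Γ(X, U') := IsScalarTower.of_algebraMap_eq' (by
    show (f.appLE V U' _).hom = (f.appLE V U e ≫ X.presheaf.map (homOfLE (X.basicOpen_le (b * c))).op).hom
    rw [Scheme.Hom.appLE_map])
  haveI : IsLocalization.Away (b * c) Γ(X, U') := hU.isLocalization_basicOpen _
  refine ⟨U', hU', hxU', h', ?_, ?_, ?_⟩
  · obtain ⟨hnzd, -⟩ := hbs Lb
    let L₂ := Localization.Away (algebraMap Γ(X, U) Lb c)
    haveI : IsLocalization.Away (b * c) L₂ := IsLocalization.Away.mul' Lb L₂ b c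
    haveI : Module.Flat Lb L₂ := IsLocalization.flat L₂ (Submonoid.powers (algebraMap Γ(X, U) Lb c))
    have h1 : algebraMap Γ(X, U) L₂ s ∈ nonZeroDivisors L₂ := by
      rw [IsScalarTower.algebraMap_apply Γ(X, U) Lb L₂]
      exact _root_.H29Blow.mem_nonZeroDivisors_map_of_flat
        (RingHom.flat_algebraMap_iff.mpr inferInstance) hnzd
    let φ := IsLocalization.algEquiv (Submonoid.powers (b * c)) L₂ Γ(X, U')
    have h2 : φ (algebraMap Γ(X, U) L₂ s) = h' := φ.commutes s
    rw [← h2]
    refine mem_nonZeroDivisors_iff_right.mpr fun z hz => φ.symm.injective ?_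
    rw [map_zero]
    refine (mem_nonZeroDivisors_iff_right.mp h1) _ (φ.injective ?_)
    rw [map_mul, φ.apply_symm_apply, hz, map_zero]
  · show X.presheaf.germ U' x hxU' h' = _
    rw [show h' = X.presheaf.map (homOfLE (X.basicOpen_le (b * c))).op s from rfl,
      TopCat.Presheaf.germ_res_apply, hs]
  · have hgf : Spec.map (CommRingCat.ofHom (Ideal.Quotient.mk (Ideal.span {h'}))) ≫ hU'.fromSpec ≫ f =
        Spec.map (CommRingCat.ofHom ((Ideal.Quotient.mk (Ideal.span {h'})).comp
          (f.appLE V U' e').hom)) ≫ hV.fromSpec := by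
      rw [← IsAffineOpen.SpecMap_appLE_fromSpec f hV hU' e', ← Spec.map_comp_assoc]
      rfl
    rw [hgf]
    haveI := hV.isOpenImmersion_fromSpec
    let L₂ := Localization.Away (algebraMap Γ(X, U) Lc b)
    haveI : IsLocalization.Away (c * b) L₂ := IsLocalization.Away.mul' Lc L₂ c b
    haveI : IsLocalization.Away (b * c) L₂ := by rw [mul_comm]; infer_instance
    let I₁ : Ideal Lc := Ideal.span {algebraMap Γ(X, U) Lc s}
    let J₂ := I₁.map (algebraMap Lc L₂)
    haveI := hcs Lc
    haveI : IsScalarTower Γ(S, V) (Lc ⧸ I₁) (L₂ ⧸ J₂) :=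
      IsScalarTower.of_algebraMap_eq (R := Γ(S, V)) (S := Lc ⧸ I₁) (A := L₂ ⧸ J₂) fun a =>
        congrArg (Ideal.Quotient.mk J₂) (IsScalarTower.algebraMap_apply Γ(S, V) Lc L₂ a)
    have hloc : IsLocalization (Algebra.algebraMapSubmonoid (Lc ⧸ I₁)
        (Submonoid.powers (algebraMap Γ(X, U) Lc b))) (L₂ ⧸ J₂) := inferInstance
    rw [Algebra.algebraMapSubmonoid, Submonoid.map_powers] at hloc
    haveI : IsLocalization.Away (algebraMap Lc (Lc ⧸ I₁) (algebraMap Γ(X, U) Lc b)) (L₂ ⧸ J₂) := hloc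
    haveI : Algebra.Smooth (Lc ⧸ I₁) (L₂ ⧸ J₂) :=
      Algebra.Smooth.of_isLocalization_Away (algebraMap Lc (Lc ⧸ I₁) (algebraMap Γ(X, U) Lc b))
    haveI : Algebra.Smooth Γ(S, V) (L₂ ⧸ J₂) := Algebra.Smooth.comp Γ(S, V) (Lc ⧸ I₁) (L₂ ⧸ J₂)
    let φ := (IsLocalization.algEquiv (Submonoid.powers (b * c)) L₂ Γ(X, U')).restrictScalars Γ(S, V)
    have hJ : Ideal.span {h'} = J₂.map φ := by
      rw [show J₂ = Ideal.span {algebraMap Γ(X, U) L₂ s} by
        show (Ideal.span _).map _ = _
        rw [Ideal.map_span, Set.image_singleton, ← IsScalarTower.algebraMap_apply],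
        Ideal.map_span, Set.image_singleton]
      exact congrArg (fun z => Ideal.span {z})
        ((IsLocalization.algEquiv (Submonoid.powers (b * c)) L₂ Γ(X, U')).commutes s).symm
    haveI hS : Algebra.Smooth Γ(S, V) (Γ(X, U') ⧸ Ideal.span {h'}) :=
      Algebra.Smooth.of_equiv (A := L₂ ⧸ J₂) (AlgEquiv.ofRingEquiv
        (f := Ideal.quotientEquiv J₂ (Ideal.span {h'}) φ.toRingEquiv hJ)
        fun a => congrArg (Ideal.Quotient.mk (Ideal.span {h'})) (φ.commutes a))
    haveI : Smooth (Spec.map (CommRingCat.ofHom ((Ideal.Quotient.mk (Ideal.span {h'})).comp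
        (f.appLE V U' e').hom))) :=
      (HasRingHomProperty.Spec_iff (P := @Smooth)).2
        (RingHom.smooth_algebraMap.mpr hS)
    infer_instance

/-- A smooth hypersurface section through a point, with germ in the maximal ideal. -/
theorem smoothCut {X S : Scheme.{u}} (f : X ⟶ S) (x : X)
    (W : X.Opens) (hxW : x ∈ W) (hW : Smooth (W.ι ≫ f))
    (r : X.presheaf.stalk x) (hm : r ∈ maximalIdeal (X.presheaf.stalk x))
    (hd : letI := (f.stalkMap x).hom.toAlgebra
      (1 : ResidueField ↑(X.presheaf.stalk x)) ⊗ₜ[↑(X.presheaf.stalk x)]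
        KaehlerDifferential.D ↑(S.presheaf.stalk (f x)) ↑(X.presheaf.stalk x) r ≠ 0) :
    ∃ (U : X.Opens) (hU : IsAffineOpen U) (hx : x ∈ U) (h' : Γ(X, U)), h' ∈ nonZeroDivisors Γ(X, U) ∧
      X.presheaf.germ U x hx h' ∈ IsLocalRing.maximalIdeal ↑(X.presheaf.stalk x) ∧
      Smooth (Spec.map (CommRingCat.ofHom (Ideal.Quotient.mk (Ideal.span {h'}))) ≫ hU.fromSpec ≫ f) := by
  obtain ⟨U, hU, hx, h', h₁, h₂, h₃⟩ := smoothCut_germ f x W hxW hW r hm hd
  exact ⟨U, hU, hx, h', h₁, h₂ ▸ hm, h₃⟩

end Groth.Agent.H8Props.SliceTools
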